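import Groth.Agent.Lib.Helper8.FTLim.Sch

/-!
# helper8: a morphism from the spectrum of a directed union of subalgebras to a scheme locally of
finite type factors through the spectrum of one of the subalgebras.
-/

set_option autoImplicit false
universe u

open CategoryTheory Limits AlgebraicGeometry Opposite

namespace Groth.Agent.H8.FTLim

lemma injective_appTop_Spec_map {R R' : CommRingCat.{u}} (φ : R ⟶ R')
    (hφ : Function.Injective φ) : Function.Injective (Spec.map φ).appTop := by
  intro x y hxy
  apply (ConcreteCategory.bijective_of_isIso (Scheme.ΓSpecIso R).hom).1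
  apply hφ
  have h := Scheme.ΓSpecIso_naturality φ
  have hx := congr($(h).hom x)
  have hy := congr($(h).hom y)
  simp only [CommRingCat.comp_apply] at hx hy
  rw [← hx, ← hy, hxy]

lemma isSchemeTheoreticallyDominant_of_appTop_injective {X Y : Scheme.{u}} [IsAffine Y]
    {f : X ⟶ Y} [CompactSpace X] (hfinj : Function.Injective (f.appTop)) :
    IsSchemeTheoreticallyDominant f :=
  ⟨Scheme.IdealSheafData.ext_of_isAffine
    (by simpa [f.ker_apply ⟨⊤, isAffineOpen_top Y⟩, ← RingHom.injective_iff_ker_eq_bot])⟩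

section

variable {ι : Type u} {A C : Type u} [CommRing A] [CommRing C] [Algebra A C]

/-- the index type, with the preorder pulled back from the subalgebras -/
structure Idx (S : ι → Subalgebra A C) : Type u where
  val : ι

instance (S : ι → Subalgebra A C) : Preorder (Idx S) :=
  Preorder.lift (fun i : Idx S => S i.val)

noncomputable def Fsub (S : ι → Subalgebra A C) : Idx S ⥤ CommRingCat.{u} where
  obj i := CommRingCat.of (S i.val)
  map {i j} h := CommRingCat.ofHom (Subalgebra.inclusion (leOfHom h)).toRingHom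
  map_id i := by ext x; rfl
  map_comp {i j k} f g := by ext x; rfl

noncomputable def coconeSub (S : ι → Subalgebra A C) : Cocone (Fsub S) where
  pt := CommRingCat.of C
  ι :=
    { app := fun i => CommRingCat.ofHom (S i.val).val.toRingHom
      naturality := fun i j h => by ext x; rfl }

lemma isDirected_Idx (S : ι → Subalgebra A C) (hdir : Directed (· ≤ ·) S) :
    IsDirected (Idx S) (· ≤ ·) :=
  ⟨fun i j => by
    obtain ⟨k, hik, hjk⟩ := hdir i.val j.val
    exact ⟨⟨k⟩, hik, hjk⟩⟩

lemma isColimit_coconeSub (S : ι → Subalgebra A C) [IsFiltered (Idx S)]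
    (hcov : ∀ c : C, ∃ i, c ∈ S i) : Nonempty (IsColimit (coconeSub S)) := by
  have : ReflectsFilteredColimits (forget CommRingCat.{u}) :=
    ⟨fun _ ↦ reflectsColimitsOfShape_of_reflectsIsomorphisms⟩
  refine ReflectsColimit.reflects (F := forget _) (Types.FilteredColimit.isColimitOf' _ _ ?_ ?_)
  · intro x
    obtain ⟨i, hi⟩ := hcov x
    exact ⟨⟨i⟩, ⟨x, hi⟩, rfl⟩
  · intro i x y h
    exact ⟨i, 𝟙 i, by rw [show x = y from Subtype.ext h]⟩

end

theorem main {ι : Type u} (A C : Type u) [CommRing A] [CommRing C] [Algebra A C]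
    (S : ι → Subalgebra A C) (hdir : Directed (· ≤ ·) S) (hcov : ∀ c : C, ∃ i, c ∈ S i)
    (X : Scheme.{u}) (f : X ⟶ Spec (CommRingCat.of A)) [LocallyOfFiniteType f]
    (g : Spec (CommRingCat.of C) ⟶ X)
    (hg : g ≫ f = Spec.map (CommRingCat.ofHom (algebraMap A C))) :
    ∃ (i : ι) (g' : Spec (CommRingCat.of (S i)) ⟶ X),
      g' ≫ f = Spec.map (CommRingCat.ofHom (algebraMap A (S i))) ∧
      Spec.map (CommRingCat.ofHom (S i).val.toRingHom) ≫ g' = g := by
  obtain ⟨i₀, -⟩ := hcov 0
  haveI : Nonempty (Idx S) := ⟨⟨i₀⟩⟩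
  haveI : IsDirected (Idx S) (· ≤ ·) := isDirected_Idx S hdir
  haveI : IsFiltered (Idx S) := isFiltered_of_directed_le_nonempty _
  obtain ⟨hcol⟩ := isColimit_coconeSub S hcov
  have hc : IsLimit (Scheme.Spec.mapCone (coconeSub S).op) :=
    isLimitOfPreserves Scheme.Spec hcol.op
  let t : (Fsub S).op ⋙ Scheme.Spec ⟶ (Functor.const _).obj (Spec (CommRingCat.of A)) :=
    { app := fun i => Spec.map (CommRingCat.ofHom (algebraMap A (S i.unop.val)))
      naturality := fun i j φ => by
        show Spec.map ((Fsub S).map φ.unop) ≫ Spec.map _ = Spec.map _ ≫ 𝟙 _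
        rw [Category.comp_id, ← Spec.map_comp]
        rfl }
  haveI hDaff : ∀ i, IsAffine (((Fsub S).op ⋙ Scheme.Spec).obj i) := fun i => by
    dsimp; infer_instance
  have hdom : ∀ i, IsSchemeTheoreticallyDominant
      ((Scheme.Spec.mapCone (coconeSub S).op).π.app i) := by
    intro i
    show IsSchemeTheoreticallyDominant
      (Spec.map (CommRingCat.ofHom (S i.unop.val).val.toRingHom))
    apply isSchemeTheoreticallyDominant_of_appTop_injective
    apply injective_appTop_Spec_map
    exact Subtype.val_injective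
  have ha : (Scheme.Spec.mapCone (coconeSub S).op).π ≫ t = (Functor.const _).map (g ≫ f) := by
    ext i : 2
    show Spec.map (CommRingCat.ofHom (S i.unop.val).val.toRingHom) ≫
      Spec.map (CommRingCat.ofHom (algebraMap A (S i.unop.val))) = g ≫ f
    rw [hg, ← Spec.map_comp]
    rfl
  obtain ⟨i, g', h1, h2⟩ := Scheme.h8_exists_π_app_comp_eq_of_locallyOfFiniteType
    ((Fsub S).op ⋙ Scheme.Spec) t f _ hc hdom g ha
  exact ⟨i.unop.val, g', h2, h1⟩

end Groth.Agent.H8.FTLim
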