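import Mathlib

/-!
# helper8: factoring a map out of a finite type algebra through a stage of a filtered colimit
with injective structure maps (finite type variant of
`RingHom.EssFiniteType.exists_eq_comp_ι_app_of_isColimit`).
-/

set_option autoImplicit false
universe vJ uJ u

open CategoryTheory Limits

namespace Groth.Agent.H8.FTLim

variable {J : Type uJ} [Category.{vJ} J] [IsFiltered J]
variable (R : CommRingCat.{u}) (F : J ⥤ CommRingCat.{u}) (α : (Functor.const _).obj R ⟶ F)
variable {S : CommRingCat.{u}} (f : R ⟶ S) (c : Cocone F) (hc : IsColimit c)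
variable [PreservesColimit F (forget CommRingCat)]

set_option backward.defeqAttrib.useBackward true in
set_option backward.isDefEq.respectTransparency false in
include hc in
lemma exists_eq_comp_ι_app_of_isColimit_of_injective (hf : f.hom.FiniteType)
    (hinj : ∀ i, Function.Injective (c.ι.app i))
    (g : S ⟶ c.pt) (hg : ∀ i, f ≫ g = α.app i ≫ c.ι.app i) :
    ∃ (i : J) (g' : S ⟶ F.obj i), f ≫ g' = α.app i ∧ g = g' ≫ c.ι.app i := by
  classical
  have hc' := isColimitOfPreserves (forget _) hc
  let := f.hom.toAlgebra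
  obtain ⟨n, hn⟩ : ∃ n, ∃ π₀ : MvPolynomial (Fin n) R →ₐ[R] S, Function.Surjective π₀ :=
    Algebra.FiniteType.iff_quotient_mvPolynomial''.mp hf
  let P := CommRingCat.of (MvPolynomial (Fin n) R)
  let iP : R ⟶ P := CommRingCat.ofHom MvPolynomial.C
  obtain ⟨π, rfl, hπ⟩ :
      ∃ π : P ⟶ S, iP ≫ π = f ∧ Function.Surjective π := by
    obtain ⟨π, h₁⟩ := hn
    exact ⟨CommRingCat.ofHom π, by ext1; exact π.comp_algebraMap, h₁⟩
  obtain ⟨i, g', hg', hg''⟩ : ∃ (i : J) (g' : P ⟶ F.obj i),
      π ≫ g = g' ≫ c.ι.app i ∧ iP ≫ g' = α.app i := by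
    choose j x h using fun i ↦ Types.jointly_surjective_of_isColimit hc' ((π ≫ g) (.X i))
    obtain ⟨i, ⟨hi⟩⟩ : ∃ i, Nonempty (∀ a, (j a ⟶ i)) := by
      have : ∃ i, ∀ a, Nonempty (j a ⟶ i) := by
        simpa using! IsFiltered.sup_objs_exists (Finset.univ.image j)
      simpa [← exists_true_iff_nonempty, Classical.skolem, -exists_const_iff] using! this
    refine ⟨i, CommRingCat.ofHom (MvPolynomial.eval₂Hom
      (α.app i).hom (F.map (hi _) <| x ·)), ?_, ?_⟩
    · ext1
      apply MvPolynomial.ringHom_ext
      · simpa using! fun x ↦ congr($(hg i).hom x)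
      · intro i
        simp only [CommRingCat.hom_comp, RingHom.coe_comp, Function.comp_apply,
          Functor.const_obj_obj, CommRingCat.hom_ofHom, MvPolynomial.coe_eval₂Hom,
          MvPolynomial.eval₂_X]
        exact (congr($(c.w (hi i)).hom (x i)).trans (h i)).symm
    · ext x
      simp [P, iP]
  have hker : RingHom.ker π.hom ≤ RingHom.ker g'.hom := by
    intro r hr
    rw [RingHom.mem_ker] at hr ⊢
    apply hinj i
    have h1 : (c.ι.app i) (g'.hom r) = g (π.hom r) := by
      have := congr($(hg').hom r)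
      simpa using this.symm
    rw [h1, hr, map_zero, map_zero]
  refine ⟨i, CommRingCat.ofHom (RingHom.liftOfSurjective π.hom hπ ⟨g'.hom, hker⟩), ?_, ?_⟩
  · ext x
    suffices (iP ≫ g') x = α.app i x by
      simpa [RingHom.liftOfRightInverse_comp_apply] using! this
    exact congr($(hg'').hom x)
  · ext x
    obtain ⟨x, rfl⟩ := hπ x
    have := congr($(hg').hom x)
    simpa [RingHom.liftOfRightInverse_comp_apply] using this

end Groth.Agent.H8.FTLim
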